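/-
Hall numbers, the counterexamples: `PSL(2, r)` for a suitable prime `r`.
-/
import Mathlib
import Cfsg.Agent.Lib.Dickson.Max

set_option autoImplicit false

namespace CfsgLib.HallNum

open CfsgLib.Dickson
open scoped MatrixGroups

theorem exists_split (m : ℕ) (hm : 2 ≤ m) (h1 : ¬ IsPrimePow m) (h2 : m % 4 ≠ 2) :
    ∃ A B : ℕ, m = A * B ∧ A.Coprime B ∧ Odd A ∧ 1 < A ∧ 1 < B ∧ (Odd B ∨ 4 ∣ B) := by
  have key : ∀ p : ℕ, p.Prime → p ∣ m → ∃ k C : ℕ, m = p ^ k * C ∧ 1 ≤ k ∧ ¬ p ∣ C ∧ 1 < C := by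
    intro p hp hd
    obtain ⟨k, C, hC, e⟩ := Nat.exists_eq_pow_mul_and_not_dvd (n := m) (by omega) p hp.ne_one
    have hk : 1 ≤ k := by
      rcases Nat.eq_zero_or_pos k with rfl | h
      · simp at e; exact absurd (e ▸ hd) hC
      · exact h
    refine ⟨k, C, e, hk, hC, ?_⟩
    have hC0 : C ≠ 0 := by rintro rfl; exact hC (dvd_zero _)
    have hC1 : C ≠ 1 := by
      rintro rfl
      exact h1 ⟨p, k, hp.prime, by omega, by simp [e]⟩
    omega
  rcases Nat.even_or_odd m with he | ho
  · obtain ⟨k, C, e, hk, hC, hC1⟩ := key 2 Nat.prime_two he.two_dvd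
    have hCo : Odd C := by
      rw [← Nat.not_even_iff_odd]; exact fun h => hC h.two_dvd
    have hk2 : 2 ≤ k := by
      by_contra h
      have : k = 1 := by omega
      subst this
      obtain ⟨c, hc⟩ := hCo
      omega
    refine ⟨C, 2 ^ k, by rw [e, mul_comm], ?_, hCo, hC1, ?_, Or.inr ?_⟩
    · exact Nat.Coprime.pow_right _ ((Nat.coprime_two_right).mpr hCo)
    · exact Nat.one_lt_two_pow (by omega)
    · exact (by norm_num : (4 : ℕ) = 2 ^ 2) ▸ pow_dvd_pow 2 hk2
  · have hp := Nat.minFac_prime (n := m) (by omega)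
    obtain ⟨k, C, e, hk, hC, hC1⟩ := key _ hp (Nat.minFac_dvd m)
    refine ⟨m.minFac ^ k, C, e, ?_, ?_, ?_, hC1, Or.inl ?_⟩
    · exact Nat.Coprime.pow_left _ ((Nat.Prime.coprime_iff_not_dvd hp).mpr hC)
    · exact (ho.of_dvd_nat (Nat.minFac_dvd m)).pow
    · exact Nat.one_lt_pow (by omega) hp.one_lt
    · exact ho.of_dvd_nat (e ▸ Dvd.intro_left _ rfl)

theorem exists_prime (A B : ℕ) (hc : A.Coprime B) (hA : Odd A) (hB : 1 < B) (n : ℕ) :
    ∃ r u v : ℕ, r.Prime ∧ n < r ∧ 2 < r ∧ r = 2 * (A * u) + 1 ∧ r + 1 = B * v ∧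
      A.Coprime u ∧ B.Coprime v := by
  have hA0 : 0 < A := hA.pos
  have hc2 : (A ^ 2).Coprime (B ^ 2) := Nat.Coprime.pow 2 2 hc
  obtain ⟨a, ha1, ha2⟩ := Nat.chineseRemainder hc2 (1 + A) (B - 1)
  have hac : a.Coprime (A ^ 2 * B ^ 2) := by
    refine Nat.Coprime.mul_right ?_ ?_
    · have : (1 + A).Coprime (A ^ 2) := Nat.Coprime.pow_right _ (by simp)
      rw [Nat.Coprime, ha1.gcd_eq]; exact this
    · have : (B - 1).Coprime (B ^ 2) := by
        refine Nat.Coprime.pow_right _ ?_
        obtain ⟨b, rfl⟩ : ∃ b, B = b + 1 := ⟨B - 1, by omega⟩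
        simp
      rw [Nat.Coprime, ha2.gcd_eq]; exact this
  obtain ⟨r, hr, hp, hmod⟩ := Nat.forall_exists_prime_gt_and_modEq (n + 2 + A + B) (q := A ^ 2 * B ^ 2)
    (by positivity) hac
  have h1 : r ≡ 1 + A [MOD A ^ 2] := (hmod.of_mul_right _).trans ha1
  have h2 : r ≡ B - 1 [MOD B ^ 2] := (hmod.of_mul_left _).trans ha2
  obtain ⟨k, hk⟩ := (Nat.modEq_iff_dvd' (by omega : 1 + A ≤ r)).mp h1.symm
  obtain ⟨l, hl⟩ := (Nat.modEq_iff_dvd' (by omega : B - 1 ≤ r)).mp h2.symm
  have hro : Odd r := hp.odd_of_ne_two (by omega)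
  have e1 : r = 1 + A * (1 + A * k) := by
    have : r = 1 + A + A ^ 2 * k := by omega
    rw [this]; ring
  have he : Even (1 + A * k) := by
    by_contra h
    rw [Nat.not_even_iff_odd] at h
    obtain ⟨s, hs⟩ := hA.mul h
    obtain ⟨t, ht⟩ := hro
    omega
  obtain ⟨u, hu⟩ := he
  refine ⟨r, u, 1 + B * l, hp, by omega, by omega, ?_, ?_, ?_, ?_⟩
  · rw [e1, hu]; ring
  · have : r + 1 = B + B ^ 2 * l := by omega
    rw [this]; ring
  · have : A.Coprime (u + u) := by rw [← hu]; simp
    exact Nat.Coprime.coprime_dvd_right ⟨2, by ring⟩ this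
  · simp

theorem counter (m : ℕ) (hm : 2 ≤ m) (h1 : ¬ IsPrimePow m) (h2 : m % 4 ≠ 2) (h12 : m ≠ 12)
    (h24 : m ≠ 24) (h60 : m ≠ 60) :
    ∃ (G : Type) (_ : Group G) (_ : Finite G), m ∣ Nat.card G ∧ m.Coprime (Nat.card G / m) ∧
      ∀ H : Subgroup G, Nat.card H ≠ m := by
  obtain ⟨A, B, rfl, hc, hA, hA1, hB1, hB⟩ := exists_split m hm h1 h2
  obtain ⟨r, u, v, hp, hr, hr2, e1, e2, hu, hv⟩ := exists_prime A B hc hA hB1 (A * B)
  haveI := Fact.mk hp
  have hcard : Nat.card (ZMod r) = r := Nat.card_zmod r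
  have hodd : Odd (Nat.card (ZMod r)) := by rw [hcard]; exact hp.odd_of_ne_two (by omega)
  have hG := card_psl_odd (F := ZMod r) hodd
  have hidx := index_psl_odd (F := ZMod r) hodd
  rw [hcard] at hG
  have hsq : r ^ 2 - 1 = 2 * ((A * B) * (u * v)) := by
    have : r ^ 2 = (r + 1) * (2 * (A * u)) + 1 := by
      conv_lhs => rw [e1]
      conv_rhs => rw [e1]
      ring
    rw [this, e2, Nat.add_sub_cancel]; ring
  have hGc : Nat.card (pslPGL (ZMod r)).range = (A * B) * (r * (u * v)) := by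
    rw [hsq] at hG
    have : 2 * Nat.card (pslPGL (ZMod r)).range = 2 * ((A * B) * (r * (u * v))) := by
      rw [hG]; ring
    omega
  -- coprimality facts
  have hAu2 : ∀ d, d ∣ B → d ∣ 2 * (A * u) → d ∣ 2 := by
    intro d hd1 hd2
    have h3 : d ∣ 2 * (A * u) + 2 := by
      have : 2 * (A * u) + 2 = B * v := by omega
      rw [this]; exact hd1.mul_right _
    exact (Nat.dvd_add_right hd2).mp h3
  have hBu : B.Coprime (A * u) := by
    rw [Nat.coprime_iff_gcd_eq_one]
    have hd := hAu2 _ (Nat.gcd_dvd_left B (A * u)) ((Nat.gcd_dvd_right B (A * u)).mul_left 2)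
    rcases (Nat.dvd_prime Nat.prime_two).mp hd with h | h
    · exact h
    · exfalso
      have h3 : 2 ∣ B := h ▸ Nat.gcd_dvd_left B (A * u)
      have h4 : 2 ∣ A * u := h ▸ Nat.gcd_dvd_right B (A * u)
      rcases hB with hB | hB
      · obtain ⟨s, hs⟩ := hB; omega
      · have h5 : 4 ∣ B * v := hB.mul_right _
        omega
  have hAv : A.Coprime (B * v) := by
    rw [← e2, e1]
    have : 2 * (A * u) + 1 + 1 = 2 + A * (2 * u) := by ring
    rw [this, Nat.coprime_add_mul_left_right]
    exact (Nat.coprime_two_right).mpr hA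
  have hmr : (A * B).Coprime r := by
    refine ((Nat.Prime.coprime_iff_not_dvd hp).mpr fun h => ?_).symm
    have := Nat.le_of_dvd (by positivity) h
    omega
  refine ⟨(pslPGL (ZMod r)).range, inferInstance, inferInstance, ⟨_, hGc⟩, ?_, fun H hH => ?_⟩
  · rw [hGc, Nat.mul_div_cancel_left _ (by positivity)]
    refine hmr.mul_right (Nat.Coprime.mul_right ?_ ?_)
    · exact Nat.Coprime.mul_left hu (hBu.coprime_mul_left_right)
    · exact Nat.Coprime.mul_left (hAv.coprime_mul_left_right) hv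
  · set K := H.map (pslPGL (ZMod r)).range.subtype with hK
    have hKc : Nat.card K = A * B := by
      rw [hK, Subgroup.card_map_of_injective (Subgroup.subtype_injective _), hH]
    have hKL : K ≤ (pslPGL (ZMod r)).range := Subgroup.map_subtype_le _
    rcases dickson_fin r K with ⟨x, h⟩ | ⟨x, y, hxy, h⟩ | ⟨x, y, hxy, h⟩ | ⟨-, -, ⟨e⟩⟩ | ⟨-, -, ⟨e⟩⟩ |
      ⟨-, -, ⟨e⟩⟩ | ⟨K₀, k, -, h⟩
    · have h3 := Subgroup.card_dvd_of_le (le_stab_of_le h hKL)
      have h4 := card_stab_emb (le_refl (pslPGL (ZMod r)).range) x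
      rw [hidx, hcard] at h4
      have h5 : Nat.card (stab (pslPGL (ZMod r)).range (emb x)) = r * (A * u) := by
        have : r - 1 = 2 * (A * u) := by omega
        rw [this] at h4
        have : r * (2 * (A * u)) = (r * (A * u)) * 2 := by ring
        omega
      rw [hKc, h5] at h3
      have h6 : B ∣ A * u := (Dvd.intro_left _ rfl : B ∣ A * B).trans (hmr.dvd_of_dvd_mul_left h3)
      have := Nat.Coprime.eq_one_of_dvd hBu h6
      omega
    · have h3 := Subgroup.card_dvd_of_le (le_pairStab_of_le h hKL)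
      have h4 := card_pairStab_emb (le_refl (pslPGL (ZMod r)).range) hxy
      rw [hidx, hcard] at h4
      have h5 : Nat.card (pairStab (pslPGL (ZMod r)).range (emb x) (emb y)) = 2 * (A * u) := by
        omega
      rw [hKc, h5] at h3
      have h6 := hAu2 B dvd_rfl ((Dvd.intro_left _ rfl : B ∣ A * B).trans h3)
      have h7 : B = 2 := by
        have := Nat.le_of_dvd (by norm_num) h6
        omega
      subst h7
      rcases hB with hB | hB
      · exact absurd hB (by decide)
      · exact absurd hB (by decide)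
    · have h3 := Subgroup.card_dvd_of_le (le_pairStab_of_le h hKL)
      have h4 := hxy.card_pairStab (le_refl (pslPGL (ZMod r)).range) (by rw [hcard]; omega)
      rw [hidx, hcard] at h4
      have h5 : Nat.card (pairStab (pslPGL (ZMod r)).range x y) = B * v := by omega
      rw [hKc, h5] at h3
      have := Nat.Coprime.eq_one_of_dvd hAv ((Dvd.intro _ rfl : A ∣ A * B).trans h3)
      omega
    · have := Nat.card_congr e.toEquiv
      rw [hKc, Nat.card_eq_fintype_card] at this
      exact h12 (this.trans (by decide +kernel))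
    · have := Nat.card_congr e.toEquiv
      rw [hKc, Nat.card_eq_fintype_card, Fintype.card_perm] at this
      exact h24 (this.trans (by decide))
    · have := Nat.card_congr e.toEquiv
      rw [hKc, Nat.card_eq_fintype_card] at this
      exact h60 (this.trans (by decide +kernel))
    · have hK0 : K₀ = ⊤ := subfield_eq_top_of_prime (by rw [hcard]; exact hp) K₀
      subst hK0
      have h3 := Subgroup.card_dvd_of_le (psl_le_of_top h)
      rw [hGc, hKc] at h3
      have h4 := Nat.le_of_dvd (by positivity) h3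
      have hu0 : 0 < u := by
        rcases Nat.eq_zero_or_pos u with rfl | h
        · omega
        · exact h
      have hv0 : 0 < v := by
        rcases Nat.eq_zero_or_pos v with rfl | h
        · omega
        · exact h
      have h5 : 2 ≤ r * (u * v) := by
        have : 1 ≤ u * v := Nat.mul_pos hu0 hv0
        nlinarith
      have h6 : 0 < A * B := by positivity
      nlinarith

end CfsgLib.HallNum
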