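/-
Hall numbers: `12`, `24`, `60` and the numbers `≡ 2 (mod 4)`.
-/
import Mathlib
import Cfsg.Agent.Lib.HallNum.Fwd
import Cfsg.Agent.Lib.WCor.In
import Cfsg.Agent.Lib.Core.Basic
import Cfsg.Agent.Lib.Transfer.Frobenius
import Cfsg.Agent.Lib.Coprime.Hall
import Cfsg.Agent.Lib.Char.Burnside

set_option autoImplicit false

namespace CfsgLib.HallNum

open Cfsg Subgroup
open scoped MatrixGroups

universe u

theorem solv_of_pgroup {G : Type*} [Group G] [Finite G] {p : ℕ} [Fact p.Prime] (h : IsPGroup p G) :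
    Group.IsSolvable G := by
  haveI := h.isNilpotent
  infer_instance

theorem solv_of_compl {G : Type*} [Group G] [Finite G] (h : HasNormalPComplement 2 G) :
    Group.IsSolvable G := by
  obtain ⟨P, N, hN, hc⟩ := h
  refine (Group.isSolvable_iff_subgroup_quotient N).mpr ⟨FT.odd_order_solvable ?_, ?_⟩
  · rw [← hc.index_eq_card, ← Nat.not_even_iff_odd, even_iff_two_dvd]
    exact P.not_dvd_index
  · obtain ⟨n, hn⟩ := IsPGroup.iff_card.mp P.isPGroup'
    refine solv_of_pgroup (p := 2) (IsPGroup.of_card (n := n) ?_)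
    rw [← hn, ← hc.symm.index_eq_card]; rfl

theorem solv_of_not_four {G : Type*} [Group G] [Finite G] (h : ¬ 4 ∣ Nat.card G) :
    Group.IsSolvable G := by
  obtain ⟨P⟩ := (inferInstance : Nonempty (Sylow 2 G))
  obtain ⟨n, hn⟩ := IsPGroup.iff_card.mp P.isPGroup'
  have hn1 : n ≤ 1 := by
    by_contra h1
    refine h (Dvd.dvd.trans ?_ (P : Subgroup G).card_subgroup_dvd_card)
    rw [hn]; exact (by norm_num : (4 : ℕ) = 2 ^ 2) ▸ pow_dvd_pow 2 (by omega)
  refine solv_of_compl (Transfer.hasNormalPComplement_of_not_dvd_pow_sub_one P hn ?_)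
  intro q hq _ i h1 h2 h3
  have : i = 1 := by omega
  subst this
  exact hq.ne_one (Nat.dvd_one.mp (by simpa using h3))

theorem hall_sub {G : Type*} [Group G] [Finite G] {m : ℕ} (hc : m.Coprime (Nat.card G / m))
    (K : Subgroup G) (hK : Group.IsSolvable K) (hm : m ∣ Nat.card K) :
    ∃ H : Subgroup G, Nat.card H = m := by
  obtain ⟨k, hk⟩ := hm
  have hm0 : 0 < m := Nat.pos_of_ne_zero (by rintro rfl; exact Nat.card_pos.ne' (hk.trans (zero_mul _)))
  have h1 : Nat.card G / m = k * K.index := by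
    rw [← K.card_mul_index, hk, mul_assoc, Nat.mul_div_cancel_left _ hm0]
  rw [h1] at hc
  obtain ⟨H, hH⟩ := Coprime.exists_card_eq_of_coprime hk hc.coprime_mul_right_right
  exact ⟨H.map K.subtype, by rw [card_map_of_injective K.subtype_injective, hH]⟩

theorem card_subgroupOf_of_le {G : Type*} [Group G] {H K : Subgroup G} (h : H ≤ K) :
    Nat.card (H.subgroupOf K) = Nat.card H :=
  Nat.card_congr (subgroupOfEquivOfLe h).toEquiv

theorem solv_norm {G : Type*} [Group G] [Finite G] {Q : Subgroup G} (hQ : IsPGroup 2 Q)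
    (h : ¬ 4 * Nat.card Q ∣ Nat.card G) : Group.IsSolvable (normalizer (Q : Set G)) := by
  refine (Group.isSolvable_iff_subgroup_quotient (Q.subgroupOf (normalizer (Q : Set G)))).mpr
    ⟨solv_of_pgroup (p := 2) (hQ.of_equiv (subgroupOfEquivOfLe le_normalizer).symm),
      solv_of_not_four fun h4 => h ?_⟩
  refine Dvd.dvd.trans ?_ (normalizer (Q : Set G)).card_subgroup_dvd_card
  rw [← (Q.subgroupOf (normalizer (Q : Set G))).index_mul_card, card_subgroupOf_of_le le_normalizer]
  exact Nat.mul_dvd_mul_right h4 _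

theorem frattini_dvd {G : Type*} [Group G] [Finite G] {p : ℕ} [Fact p.Prime] (M : Subgroup G)
    [M.Normal] (S : Sylow p M) :
    M.index ∣ Nat.card (normalizer ((S : Subgroup M).map M.subtype : Set G)) := by
  rw [← relIndex_top_right, ← S.normalizer_sup_eq_top, relIndex_sup_right]
  exact relIndex_dvd_card _ _

/-- a `2`-subgroup of order at least `4` with a normalizer of order divisible by `3` -/
def P3 (G : Type*) [Group G] : Prop :=
  ∃ Q : Subgroup G, IsPGroup 2 Q ∧ 4 ∣ Nat.card Q ∧ 3 ∣ Nat.card (normalizer (Q : Set G))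

theorem P3.map {H G : Type*} [Group H] [Group G] (h : P3 H) (f : H →* G)
    (hf : Function.Injective f) : P3 G := by
  obtain ⟨Q, h1, h2, h3⟩ := h
  refine ⟨Q.map f, h1.map f, by rwa [card_map_of_injective hf], ?_⟩
  refine Dvd.dvd.trans ?_ (card_dvd_of_le (le_normalizer_map f))
  rwa [card_map_of_injective hf]

theorem P3.of_quot {G : Type*} [Group G] [Finite G] {N : Subgroup G} [N.Normal] (h : P3 (G ⧸ N)) :
    P3 G := by
  obtain ⟨Q, h1, h2, h3⟩ := h
  set π := QuotientGroup.mk' N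
  have hπ : Function.Surjective π := QuotientGroup.mk'_surjective N
  set Q' := Q.comap π
  set L := normalizer (Q' : Set G)
  obtain ⟨S⟩ := (inferInstance : Nonempty (Sylow 2 (Q'.subgroupOf L)))
  refine P3.map (H := L) ⟨(S : Subgroup _).map (Q'.subgroupOf L).subtype, S.isPGroup'.map _, ?_, ?_⟩
    L.subtype L.subtype_injective
  · rw [card_map_of_injective (subtype_injective _)]
    refine S.pow_dvd_card_of_pow_dvd_card (n := 2) ?_
    rw [card_subgroupOf_of_le le_normalizer, Core.card_comap_mk']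
    exact h2.mul_right _
  · refine Dvd.dvd.trans ?_ (frattini_dvd _ S)
    have e : (Q'.subgroupOf L).index = Q.relIndex (normalizer (Q : Set (G ⧸ N))) := by
      change Q'.relIndex L = _
      rw [relIndex_comap, show L = _ from (comap_normalizer_eq_of_surjective Q hπ).symm,
        map_comap_eq_self_of_surjective hπ]
    rw [e]
    rw [← (Q.subgroupOf (normalizer (Q : Set (G ⧸ N)))).index_mul_card,
      card_subgroupOf_of_le le_normalizer] at h3
    obtain ⟨n, hn⟩ := IsPGroup.iff_card.mp h1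
    rw [hn] at h3
    exact (Nat.Coprime.pow_right n (by norm_num)).dvd_of_dvd_mul_right h3

theorem p3_A4 : P3 (alternatingGroup (Fin 4)) := by
  have h4 : Nat.card (Fin 4) = 4 := by simp
  have hc := alternatingGroup.kleinFour_card_of_card_eq_four h4
  haveI := alternatingGroup.normal_kleinFour h4
  refine ⟨alternatingGroup.kleinFour (Fin 4), IsPGroup.of_card (n := 2) hc, by rw [hc], ?_⟩
  rw [normalizer_eq_top, card_top, Nat.card_eq_fintype_card]
  decide +kernel

theorem p3_psl {F : Type*} [Field F] [Fintype F] (h : Odd (Fintype.card F)) : P3 PSL(2, F) := by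
  obtain ⟨H, hH⟩ := Dickson.exists_A4 (K := F)
    (Dickson.two_ne_zero_of_odd_card (by rwa [Nat.card_eq_fintype_card]))
  obtain ⟨A, ⟨e⟩⟩ := Dickson.exists_psl_subgroup_iff.mpr ⟨H, Dickson.A4_le_psl hH, hH⟩
  exact (p3_A4.map e.symm.toMonoidHom e.symm.injective).map A.subtype A.subtype_injective

theorem comm_of_seven {G : Type*} [Group G] [Finite G] {Q : Subgroup G} (hQ : Nat.card Q = 8) {g : G}
    (hg : g ∈ normalizer (Q : Set G)) (hk : ∃ k, g ^ 7 ^ k = 1) (hc : g ∉ centralizer (Q : Set G)) :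
    IsMulCommutative Q := by
  haveI : Fact (Nat.Prime 7) := ⟨by norm_num⟩
  have hdiv : ∀ d, d ∣ 8 → d % 7 = 1 → d = 1 ∨ d = 8 := by
    intro d hd
    have := Nat.le_of_dvd (by norm_num) hd
    interval_cases d <;> simp_all
  have h1 := Transfer.card_modEq_card_inf_centralizer hg hk
  have h2 : Q ⊓ centralizer ({g} : Set G) = ⊥ := by
    rcases hdiv _ (hQ ▸ card_dvd_of_le inf_le_left) (by rw [hQ] at h1; exact h1.symm) with h | h
    · exact card_eq_one.mp h
    · exfalso
      have := eq_of_le_of_card_ge (inf_le_left : Q ⊓ centralizer ({g} : Set G) ≤ Q) (by omega)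
      exact hc fun x hx => mem_centralizer_singleton_iff.mp (inf_eq_left.mp this hx)
  set Z := Q ⊓ centralizer (Q : Set G)
  have hgZ : g ∈ normalizer (Z : Set G) := by
    have h3 : ∀ y ∈ normalizer (Q : Set G), ∀ x ∈ Z, y * x * y⁻¹ ∈ Z := by
      intro y hy x hx
      refine ⟨(mem_normalizer_iff.mp hy x).mp hx.1, fun w hw => ?_⟩
      have h4 : y⁻¹ * w * y ∈ Q := by
        have := (mem_normalizer_iff.mp (inv_mem hy) w).mp hw
        simpa using this
      have h5 := hx.2 _ h4
      calc w * (y * x * y⁻¹) = y * ((y⁻¹ * w * y) * x) * y⁻¹ := by group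
        _ = y * (x * (y⁻¹ * w * y)) * y⁻¹ := by rw [h5]
        _ = _ := by group
    refine mem_normalizer_iff.mpr fun x => ⟨h3 g hg x, fun hx => ?_⟩
    have := h3 _ (inv_mem hg) _ hx
    simpa [mul_assoc] using this
  have h4 := Transfer.card_modEq_card_inf_centralizer hgZ hk
  have h5 : Z ⊓ centralizer ({g} : Set G) = ⊥ :=
    le_bot_iff.mp (h2 ▸ inf_le_inf_right _ inf_le_left)
  rw [h5, card_bot] at h4
  rcases hdiv _ (hQ ▸ card_dvd_of_le (inf_le_left : Z ≤ Q)) h4 with h | h
  · exfalso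
    haveI : Nontrivial Q := Finite.one_lt_card_iff_nontrivial.mp (by omega)
    have hp : IsPGroup 2 Q := IsPGroup.of_card (n := 3) hQ
    obtain ⟨⟨z, hz⟩, hz1⟩ := (nontrivial_iff_exists_ne (1 : center Q)).mp hp.center_nontrivial
    have : (z : G) ∈ Z := ⟨z.2, fun w hw => congrArg Subtype.val (mem_center_iff.mp hz ⟨w, hw⟩)⟩
    rw [card_eq_one.mp h, mem_bot] at this
    exact hz1 (Subtype.ext (Subtype.ext this))
  · have := eq_of_le_of_card_ge (inf_le_left : Z ≤ Q) (hQ.trans h.symm).le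
    exact ⟨⟨fun a b => Subtype.ext ((inf_eq_left.mp this b.2) a a.2)⟩⟩

theorem p3_simple (G : Type u) [Group G] [Finite G] [hs : IsSimpleGroup G]
    (h16 : ¬ 16 ∣ Nat.card G) (h9 : ¬ 9 ∣ Nat.card G) (hn : ¬ Group.IsSolvable G) : P3 G := by
  obtain ⟨P⟩ := (inferInstance : Nonempty (Sylow 2 G))
  obtain ⟨Q, hQP, -, q, hq, hq2, -, g, hg, hk, hgc⟩ :=
    Transfer.exists_of_not_hasNormalPComplement P fun h => hn (solv_of_compl h)
  have hQ : IsPGroup 2 Q := P.isPGroup'.to_le hQP
  obtain ⟨n, hQn⟩ := IsPGroup.iff_card.mp hQ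
  obtain ⟨i, h1, h2, h3⟩ := Transfer.exists_dvd_pow_sub_one hq hq2 hQn hg hk hgc
  have hn3 : n ≤ 3 := by
    by_contra h
    refine h16 (Dvd.dvd.trans ?_ Q.card_subgroup_dvd_card)
    rw [hQn]; exact (by norm_num : (16 : ℕ) = 2 ^ 4) ▸ pow_dvd_pow 2 (by omega)
  have hi : i = 1 ∨ i = 2 ∨ i = 3 := by omega
  rcases hi with rfl | rfl | rfl
  · exact absurd (Nat.dvd_one.mp (by simpa using h3)) hq.ne_one
  · have : q = 3 := (Nat.prime_dvd_prime_iff_eq hq Nat.prime_three).mp (by simpa using h3)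
    subst this
    refine ⟨Q, hQ, hQn ▸ (by norm_num : (4 : ℕ) = 2 ^ 2) ▸ pow_dvd_pow 2 h2, ?_⟩
    obtain ⟨k, hk⟩ := hk
    obtain ⟨j, -, hj⟩ := (Nat.dvd_prime_pow Nat.prime_three).mp (orderOf_dvd_of_pow_eq_one hk)
    have hj0 : j ≠ 0 := by
      rintro rfl
      rw [pow_zero, orderOf_eq_one_iff] at hj
      exact hgc (hj ▸ one_mem _)
    exact (dvd_pow_self 3 hj0).trans (hj ▸ orderOf_dvd_natCard _ hg)
  · have : q = 7 := (Nat.prime_dvd_prime_iff_eq hq (by norm_num)).mp (by simpa using h3)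
    subst this
    have hn' : n = 3 := by omega
    subst hn'
    have hcomm := comm_of_seven hQn hg hk hgc
    have hPc : Nat.card (P : Subgroup G) ≤ Nat.card Q := by
      obtain ⟨l, hl⟩ := IsPGroup.iff_card.mp P.isPGroup'
      rw [hl, hQn]
      refine Nat.pow_le_pow_right (by norm_num) ?_
      by_contra h
      refine h16 (Dvd.dvd.trans ?_ (P : Subgroup G).card_subgroup_dvd_card)
      rw [hl]; exact (by norm_num : (16 : ℕ) = 2 ^ 4) ▸ pow_dvd_pow 2 (by omega)
    have hQP' : Q = P := eq_of_le_of_card_ge hQP hPc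
    have hab : Abel2.Ab2 G := by
      intro S
      have e := Sylow.equiv P S
      rw [hQP'] at hcomm
      exact ⟨⟨fun a b => e.symm.injective (by rw [map_mul, map_mul, hcomm.is_comm.comm])⟩⟩
    have hnc : ¬ IsMulCommutative G := fun h => hn (Group.isSolvable_of_comm h.is_comm.comm)
    rcases Abel2.classify WCor.inputs hs hnc hab with h | ⟨F, _, _, ho, -, ⟨e⟩⟩ |
      ⟨-, -, -, t, -, -, E, -, F, _, _, ho, -, N, -, ⟨e⟩, -⟩
    · exfalso
      obtain ⟨a, ha, F, _, _, hF, ⟨e⟩⟩ := WCor.pslEven_pow h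
      have h4 := WCor.card_sylow_pslEven (by omega) hF e P
      rw [← hQP', hQn] at h4
      have : a = 3 := (Nat.pow_right_injective (le_refl 2) h4).symm
      subst this
      have h5 := Classical.psl2_card_mul (F := F)
      rw [hF, ← Nat.card_congr e.toEquiv] at h5
      norm_num at h5
      exact h9 (by rw [h5]; norm_num)
    · exact (p3_psl ho).map e.symm.toMonoidHom e.symm.injective
    · exact (((p3_psl ho).map e.symm.toMonoidHom e.symm.injective).map N.subtype
        N.subtype_injective).map E.subtype E.subtype_injective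

theorem p3 {G : Type u} [Group G] [Finite G] (h16 : ¬ 16 ∣ Nat.card G) (h9 : ¬ 9 ∣ Nat.card G)
    (hn : ¬ Group.IsSolvable G) : P3 G := by
  by_contra h
  refine hn (Char.isSolvable_of_simple_case
    (fun G _ => ¬ 16 ∣ Nat.card G ∧ ¬ 9 ∣ Nat.card G ∧ ¬ P3 G) ?_ ?_ ?_ G ⟨h16, h9, h⟩)
  · rintro G _ _ N _ ⟨h1, h2, h3⟩
    exact ⟨fun h => h1 (h.trans N.card_subgroup_dvd_card),
      fun h => h2 (h.trans N.card_subgroup_dvd_card), fun h => h3 (h.map _ N.subtype_injective)⟩
  · rintro G _ _ N _ ⟨h1, h2, h3⟩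
    exact ⟨fun h => h1 (h.trans N.card_quotient_dvd_card),
      fun h => h2 (h.trans N.card_quotient_dvd_card), fun h => h3 h.of_quot⟩
  · rintro G _ _ _ ⟨h1, h2, h3⟩
    by_contra h4
    exact h3 (p3_simple G h1 h2 h4)

theorem not_dvd_of_coprime {m n a p : ℕ} (hm : m ∣ n) (hc : m.Coprime (n / m)) (hp : p.Prime)
    (hpm : p ∣ m) (ha : ¬ a ∣ m) (hap : ∃ k, a = p ^ k) : ¬ a ∣ n := by
  obtain ⟨c, rfl⟩ := hm
  obtain ⟨k, rfl⟩ := hap
  have hm0 : 0 < m := Nat.pos_of_ne_zero (by rintro rfl; exact ha (dvd_zero _))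
  rw [Nat.mul_div_cancel_left _ hm0] at hc
  intro h
  exact ha ((Nat.Coprime.pow_left k (hc.coprime_dvd_left hpm)).dvd_of_dvd_mul_right h)

theorem hall12 {G : Type u} [Group G] [Finite G] (hm : 12 ∣ Nat.card G)
    (hc : Nat.Coprime 12 (Nat.card G / 12)) : ∃ H : Subgroup G, Nat.card H = 12 := by
  by_cases hs : Group.IsSolvable G
  · exact hall_sub hc ⊤ inferInstance (by rwa [card_top])
  have h8 : ¬ 8 ∣ Nat.card G :=
    not_dvd_of_coprime hm hc Nat.prime_two (by norm_num) (by norm_num) ⟨3, rfl⟩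
  have h9 : ¬ 9 ∣ Nat.card G :=
    not_dvd_of_coprime hm hc Nat.prime_three (by norm_num) (by norm_num) ⟨2, rfl⟩
  obtain ⟨Q, h1, h2, h3⟩ := p3 (fun h => h8 (Dvd.dvd.trans (by norm_num) h)) h9 hs
  refine hall_sub hc _ (solv_norm h1 fun h => h8 (Dvd.dvd.trans ?_ h)) ?_
  · exact Dvd.dvd.trans (by norm_num) (Nat.mul_dvd_mul_left 4 h2)
  · exact Nat.Coprime.mul_dvd_of_dvd_of_dvd (by norm_num : Nat.Coprime 4 3)
      (h2.trans (card_dvd_of_le le_normalizer)) h3

theorem hall24 {G : Type u} [Group G] [Finite G] (hm : 24 ∣ Nat.card G)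
    (hc : Nat.Coprime 24 (Nat.card G / 24)) : ∃ H : Subgroup G, Nat.card H = 24 := by
  by_cases hs : Group.IsSolvable G
  · exact hall_sub hc ⊤ inferInstance (by rwa [card_top])
  have h16 : ¬ 16 ∣ Nat.card G :=
    not_dvd_of_coprime hm hc Nat.prime_two (by norm_num) (by norm_num) ⟨4, rfl⟩
  have h9 : ¬ 9 ∣ Nat.card G :=
    not_dvd_of_coprime hm hc Nat.prime_three (by norm_num) (by norm_num) ⟨2, rfl⟩
  obtain ⟨Q, h1, h2, h3⟩ := p3 h16 h9 hs
  refine hall_sub hc _ (solv_norm h1 fun h => h16 (Dvd.dvd.trans ?_ h)) ?_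
  · exact Dvd.dvd.trans (by norm_num) (Nat.mul_dvd_mul_left 4 h2)
  · refine Nat.Coprime.mul_dvd_of_dvd_of_dvd (by norm_num : Nat.Coprime 8 3) ?_ h3
    by_cases h8 : 8 ∣ Nat.card Q
    · exact h8.trans (card_dvd_of_le le_normalizer)
    · obtain ⟨n, hn⟩ := IsPGroup.iff_card.mp h1
      have h4 : 2 ≤ n := by
        rw [hn] at h2
        exact (Nat.pow_dvd_pow_iff_le_right (by norm_num : 1 < 2)).mp h2
      have h5 : n < 3 := by
        by_contra h
        exact h8 (hn ▸ (by norm_num : (8 : ℕ) = 2 ^ 3) ▸ pow_dvd_pow 2 (by omega))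
      have : n = 2 := by omega
      subst this
      exact Sylow.prime_pow_dvd_card_normalizer (p := 2) (n := 2)
        (Dvd.dvd.trans (by norm_num) hm) hn

theorem P3.twelve_dvd {G : Type*} [Group G] (h : P3 G) : 12 ∣ Nat.card G := by
  obtain ⟨Q, -, h2, h3⟩ := h
  exact Nat.Coprime.mul_dvd_of_dvd_of_dvd (by norm_num : Nat.Coprime 4 3)
    (h2.trans Q.card_subgroup_dvd_card) (h3.trans (card_subgroup_dvd_card _))

theorem coprime_div_of_dvd {m a b n : ℕ} (ha : a ∣ b) (hb : b ∣ n) (hm : m ∣ n) (hma : m ∣ a) (h0 : 0 < m)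
    (hc : m.Coprime (n / m)) : m.Coprime (a / m) := by
  obtain ⟨c, rfl⟩ := hma
  obtain ⟨d, rfl⟩ := hm
  rw [Nat.mul_div_cancel_left _ h0] at hc ⊢
  exact hc.coprime_dvd_right (Nat.dvd_of_mul_dvd_mul_left h0 (ha.trans hb))

theorem hall60 (G : Type u) [Group G] [Finite G] (hm : 60 ∣ Nat.card G)
    (hc : Nat.Coprime 60 (Nat.card G / 60)) : ∃ H : Subgroup G, Nat.card H = 60 := by
  induction hn : Nat.card G using Nat.strong_induction_on generalizing G with
  | _ n ih =>
  subst hn
  by_cases hs : Group.IsSolvable G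
  · exact hall_sub hc ⊤ inferInstance (by rwa [card_top])
  have h8 : ¬ 8 ∣ Nat.card G :=
    not_dvd_of_coprime hm hc Nat.prime_two (by norm_num) (by norm_num) ⟨3, rfl⟩
  have h16 : ¬ 16 ∣ Nat.card G := fun h => h8 (Dvd.dvd.trans (by norm_num) h)
  have h9 : ¬ 9 ∣ Nat.card G :=
    not_dvd_of_coprime hm hc Nat.prime_three (by norm_num) (by norm_num) ⟨2, rfl⟩
  have h5 : 5 ∣ Nat.card G := Dvd.dvd.trans (by norm_num) hm
  haveI : Nontrivial G := Finite.one_lt_card_iff_nontrivial.mp
    (lt_of_lt_of_le (by norm_num) (Nat.le_of_dvd Nat.card_pos h5))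
  by_cases hsim : IsSimpleGroup G
  · obtain ⟨P⟩ := (inferInstance : Nonempty (Sylow 2 G))
    have hP : Nat.card (P : Subgroup G) = 4 := by
      obtain ⟨l, hl⟩ := IsPGroup.iff_card.mp P.isPGroup'
      have h1 : 2 ^ 2 ∣ Nat.card (P : Subgroup G) :=
        P.pow_dvd_card_of_pow_dvd_card (Dvd.dvd.trans (by norm_num) hm)
      rw [hl] at h1
      have h2 := (Nat.pow_dvd_pow_iff_le_right (by norm_num : 1 < 2)).mp h1
      have h3 : l < 3 := by
        by_contra h
        refine h8 (Dvd.dvd.trans ?_ (P : Subgroup G).card_subgroup_dvd_card)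
        exact hl ▸ (by norm_num : (8 : ℕ) = 2 ^ 3) ▸ pow_dvd_pow 2 (by omega)
      have : l = 2 := by omega
      rw [hl, this]; rfl
    obtain ⟨F, _, _, -, -, ⟨e⟩⟩ := WCor.gw4 G hsim
      (fun h => hs (Group.isSolvable_of_comm h.is_comm.comm)) P hP
    have h1 := Dickson.card_psl (K := F)
    rw [← Nat.card_congr e.toEquiv] at h1
    obtain ⟨H, hH⟩ := (Dickson.exists_A5_iff (K := F)).mpr (h1 ▸ h5.mul_left _)
    obtain ⟨A, ⟨f⟩⟩ := Dickson.exists_psl_subgroup_iff.mpr ⟨H, Dickson.A5_le_psl hH, hH⟩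
    refine ⟨A.map e.symm.toMonoidHom, ?_⟩
    rw [card_map_of_injective e.symm.injective, Nat.card_congr f.toEquiv, Nat.card_eq_fintype_card]
    decide +kernel
  obtain ⟨N, hN, hb, ht⟩ : ∃ N : Subgroup G, N.Normal ∧ N ≠ ⊥ ∧ N ≠ ⊤ := by
    by_contra h
    push Not at h
    exact hsim ⟨fun N hN => (em (N = ⊥)).imp_right (h N hN)⟩
  have hcard := N.card_mul_index
  have hN1 : 1 < Nat.card N := (one_lt_card_iff_ne_bot N).mpr hb
  have hi1 : 1 < N.index := one_lt_index_of_ne_top ht
  have h5' : 5 ∣ Nat.card N ∨ 5 ∣ N.index := (Nat.prime_five.dvd_mul).mp (hcard ▸ h5)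
  by_cases hsN : Group.IsSolvable N
  · have hq : ¬ Group.IsSolvable (G ⧸ N) := fun h =>
      hs ((Group.isSolvable_iff_subgroup_quotient N).mpr ⟨hsN, h⟩)
    have hd := N.card_quotient_dvd_card
    have h12 := (p3 (fun h => h16 (h.trans hd)) (fun h => h9 (h.trans hd)) hq).twelve_dvd
    rcases h5' with h | h
    · have hc12 : Nat.Coprime 12 (Nat.card (G ⧸ N) / 12) := by
        obtain ⟨c, hc1⟩ := h12
        rw [hc1, Nat.mul_div_cancel_left _ (by norm_num)]
        rw [hc1] at hd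
        refine Nat.Coprime.mul_left (m := 4) (n := 3) (Nat.Coprime.pow_left 2 (m := 2) ?_) ?_
        · refine (Nat.Prime.coprime_iff_not_dvd Nat.prime_two).mpr fun h2 => h8 (Dvd.dvd.trans ?_ hd)
          exact Dvd.dvd.trans (by norm_num) (Nat.mul_dvd_mul_left 12 h2)
        · refine (Nat.Prime.coprime_iff_not_dvd Nat.prime_three).mpr fun h2 => h9 (Dvd.dvd.trans ?_ hd)
          exact Dvd.dvd.trans (by norm_num) (Nat.mul_dvd_mul_left 12 h2)
      obtain ⟨H, hH⟩ := hall12 h12 hc12
      refine hall_sub hc (H.comap (QuotientGroup.mk' N)) ?_ ?_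
      · haveI : Group.IsSolvable H := Dickson.isSolvable_of_card_dvd (by rw [hH]; norm_num)
        have hle : N ≤ H.comap (QuotientGroup.mk' N) := QuotientGroup.le_comap_mk' N H
        refine Group.isSolvable_of_ker_le_range (inclusion hle) ((QuotientGroup.mk' N).subgroupComap H) ?_
        rintro ⟨x, hx⟩ hx1
        have : x ∈ N := (QuotientGroup.eq_one_iff x).mp (congrArg Subtype.val hx1)
        exact ⟨⟨x, this⟩, rfl⟩
      · rw [Core.card_comap_mk', hH]
        exact Nat.mul_dvd_mul_left 12 h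
    · have h60 : 60 ∣ Nat.card (G ⧸ N) :=
        Nat.Coprime.mul_dvd_of_dvd_of_dvd (by norm_num : Nat.Coprime 12 5) h12 h
      obtain ⟨H, hH⟩ := ih _ (by change N.index < _; nlinarith) (G ⧸ N) h60
        (coprime_div_of_dvd dvd_rfl hd hm h60 (by norm_num) hc) rfl
      set K := H.comap (QuotientGroup.mk' N)
      have hle : N ≤ K := QuotientGroup.le_comap_mk' N H
      have hK : Nat.card K = 60 * Nat.card N := by rw [Core.card_comap_mk', hH]
      have hidx : (N.subgroupOf K).index = 60 := by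
        have := (N.subgroupOf K).index_mul_card
        rw [card_subgroupOf_of_le hle, hK] at this
        exact Nat.eq_of_mul_eq_mul_right (by omega) this
      have hco : Nat.Coprime (Nat.card (N.subgroupOf K)) (N.subgroupOf K).index := by
        rw [hidx, card_subgroupOf_of_le hle]
        have := coprime_div_of_dvd dvd_rfl K.card_subgroup_dvd_card hm (hK ▸ Dvd.intro _ rfl)
          (by norm_num) hc
        rw [hK, Nat.mul_div_cancel_left _ (by norm_num)] at this
        exact this.symm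
      obtain ⟨C, hC⟩ := exists_right_complement'_of_coprime hco
      refine ⟨C.map K.subtype, ?_⟩
      rw [card_map_of_injective K.subtype_injective, ← hC.symm.index_eq_card, hidx]
  · have hd := N.card_subgroup_dvd_card
    have hp := p3 (fun h => h16 (h.trans hd)) (fun h => h9 (h.trans hd)) hsN
    rcases h5' with h | h
    · have h60 : 60 ∣ Nat.card N :=
        Nat.Coprime.mul_dvd_of_dvd_of_dvd (by norm_num : Nat.Coprime 12 5) hp.twelve_dvd h
      obtain ⟨H, hH⟩ := ih _ (by nlinarith) N h60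
        (coprime_div_of_dvd dvd_rfl hd hm h60 (by norm_num) hc) rfl
      exact ⟨H.map N.subtype, by rw [card_map_of_injective N.subtype_injective, hH]⟩
    · obtain ⟨Q, h1, h2, h3⟩ := hp
      obtain ⟨S, hS⟩ := h1.exists_le_sylow
      have hQS : Q = S := by
        refine eq_of_le_of_card_ge hS ?_
        obtain ⟨l, hl⟩ := IsPGroup.iff_card.mp S.isPGroup'
        refine le_trans ?_ (Nat.le_of_dvd Nat.card_pos h2)
        rw [hl]
        refine Nat.pow_le_pow_right (n := 2) (j := 2) (by norm_num) ?_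
        by_contra h
        refine h8 (Dvd.dvd.trans (Dvd.dvd.trans ?_ (S : Subgroup N).card_subgroup_dvd_card) hd)
        exact hl ▸ (by norm_num : (8 : ℕ) = 2 ^ 3) ▸ pow_dvd_pow 2 (by omega)
      have h4 := frattini_dvd N S
      rw [← hQS] at h4
      have hc4 : Nat.card (Q.map N.subtype) = Nat.card Q := card_map_of_injective N.subtype_injective
      refine hall_sub hc _ (solv_norm (h1.map N.subtype) fun h => h16 (Dvd.dvd.trans ?_ h)) ?_
      · rw [hc4]; exact Nat.mul_dvd_mul_left 4 h2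
      · refine Nat.Coprime.mul_dvd_of_dvd_of_dvd (by norm_num : Nat.Coprime 12 5) ?_ (h.trans h4)
        refine Nat.Coprime.mul_dvd_of_dvd_of_dvd (by norm_num : Nat.Coprime 4 3) ?_ ?_
        · exact (hc4 ▸ h2).trans (card_dvd_of_le le_normalizer)
        · refine Dvd.dvd.trans ?_ (card_dvd_of_le (le_normalizer_map N.subtype))
          rwa [card_map_of_injective N.subtype_injective]

end CfsgLib.HallNum
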